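import Mathlib
import Cfsg.Agent.Fusion.Alperin

/-! # Counting the subnormalizer of a `p`-subgroup

Casolo's formula, by Möbius inversion on the lattice of subgroups above a `p`-subgroup. -/

namespace Cfsg.Agent.Subnormalizer

open Subgroup Finset

set_option maxHeartbeats 600000

variable {G : Type*} [Group G] [Finite G]

noncomputable local instance : Fintype (Subgroup G) := Fintype.ofFinite _

attribute [local instance] Classical.propDecidable

noncomputable local instance : LocallyFiniteOrder (Subgroup G) :=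
  Fintype.toLocallyFiniteOrder

/-- The Möbius function of the subgroup lattice. -/
noncomputable def moeb (H R : Subgroup G) : ℤ := IncidenceAlgebra.mu ℤ H R

theorem sum_moeb (H R : Subgroup G) :
    ∑ S ∈ univ.filter (fun S => H ≤ S ∧ S ≤ R), moeb H S = if H = R then 1 else 0 := by
  have h := IncidenceAlgebra.sum_Icc_mu_right (𝕜 := ℤ) H R
  rw [← h]
  exact Finset.sum_congr (by ext; simp) fun _ _ => rfl

theorem moeb_self (H : Subgroup G) : moeb H H = 1 := IncidenceAlgebra.mu_self H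

/-- Weisner's theorem. -/
theorem weisner {H a : Subgroup G} (ha : H < a) (Z : Subgroup G) (haZ : a ≤ Z) :
    ∑ R ∈ univ.filter (fun R => H ≤ R ∧ R ≤ Z ∧ R ⊔ a = Z), moeb H R = 0 := by
  induction Z using WellFoundedLT.induction with
  | ind Z ih =>
    have h0 := sum_moeb H Z
    rw [if_neg (ha.trans_le haZ).ne, ← Finset.sum_fiberwise_of_maps_to
      (g := fun R => R ⊔ a) (t := univ.filter (fun W => a ≤ W ∧ W ≤ Z)) (fun R hR => by
        simp only [mem_filter, mem_univ, true_and] at hR ⊢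
        exact ⟨le_sup_right, sup_le hR.2 haZ⟩),
      Finset.sum_eq_single Z] at h0
    · rw [← h0]
      refine Finset.sum_congr ?_ fun _ _ => rfl
      ext R; simp [and_assoc]
    · intro W hW hWZ
      simp only [mem_filter, mem_univ, true_and] at hW
      rw [← ih W (lt_of_le_of_ne hW.2 hWZ) hW.1]
      refine Finset.sum_congr ?_ fun _ _ => rfl
      ext R
      simp only [mem_filter, mem_univ, true_and]
      constructor
      · rintro ⟨⟨h1, -⟩, h3⟩; exact ⟨h1, h3 ▸ le_sup_left, h3⟩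
      · rintro ⟨h1, h2, h3⟩; exact ⟨⟨h1, h2.trans hW.2⟩, h3⟩
    · intro hn
      exact absurd (mem_filter.mpr ⟨mem_univ _, haZ, le_rfl⟩) hn

/-- A family above `H`, closed downwards and under joining `a`, has vanishing Möbius sum. -/
theorem sum_moeb_closed {H a : Subgroup G} (ha : H < a) (D : Finset (Subgroup G))
    (hlow : ∀ R ∈ D, H ≤ R) (hdown : ∀ R ∈ D, ∀ S, H ≤ S → S ≤ R → S ∈ D)
    (hjoin : ∀ R ∈ D, R ⊔ a ∈ D) : ∑ R ∈ D, moeb H R = 0 := by
  rw [← Finset.sum_fiberwise_of_maps_to (g := fun R => R ⊔ a) (t := D.filter (fun W => a ≤ W))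
    (fun R hR => mem_filter.mpr ⟨hjoin R hR, le_sup_right⟩)]
  refine Finset.sum_eq_zero fun W hW => ?_
  obtain ⟨hWD, haW⟩ := mem_filter.mp hW
  rw [← weisner ha W haW]
  refine Finset.sum_congr ?_ fun _ _ => rfl
  ext R
  simp only [mem_filter, mem_univ, true_and]
  constructor
  · rintro ⟨h1, h3⟩; exact ⟨hlow R h1, h3 ▸ le_sup_left, h3⟩
  · rintro ⟨h1, h2, h3⟩; exact ⟨hdown W hWD R h1 h2, h3⟩

variable (p : ℕ) [hp : Fact p.Prime]

/-- The Möbius function vanishes unless `H` is normal. -/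
theorem moeb_eq_zero {H : Subgroup G} (R : Subgroup G) (hR : IsPGroup p R) (hHR : H ≤ R)
    (hn : ¬ R ≤ normalizer (H : Set G)) : moeb H R = 0 := by
  induction R using WellFoundedLT.induction with
  | ind R ih =>
    have hlt : H < R := lt_of_le_of_ne hHR fun e => hn (e ▸ le_normalizer)
    have hN := Fusion.lt_inf_normalizer_of_isPGroup hR hlt
    set N := R ⊓ normalizer (H : Set G)
    have h1 := sum_moeb H R
    rw [if_neg hlt.ne, ← Finset.sum_filter_add_sum_filter_not _
      (fun S => S ≤ normalizer (H : Set G))] at h1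
    have h2 : ∑ S ∈ (univ.filter (fun S => H ≤ S ∧ S ≤ R)).filter
        (fun S => S ≤ normalizer (H : Set G)), moeb H S = 0 := by
      have h3 := sum_moeb H N
      rw [if_neg hN.ne] at h3
      rw [← h3]
      refine Finset.sum_congr ?_ fun _ _ => rfl
      ext S
      simp only [N, mem_filter, mem_univ, true_and, le_inf_iff]
      tauto
    rw [h2, zero_add, Finset.sum_eq_single R] at h1
    · exact h1
    · intro S hS hne
      simp only [mem_filter, mem_univ, true_and] at hS
      exact ih S (lt_of_le_of_ne hS.1.2 hne) (hR.to_le hS.1.2) hS.1.1 hS.2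
    · intro h
      exact absurd (by simp [hHR, hn]) h

/-- Elements of `K` normalizing a `p`-subgroup of `K` above `R`. -/
def Sn (K R : Subgroup G) (g : G) : Prop :=
  g ∈ K ∧ ∃ T : Subgroup G, IsPGroup p T ∧ R ≤ T ∧ T ≤ K ∧ g ∈ normalizer (T : Set G)

/-- Maximal `p`-subgroups of `K`. -/
def IsMax (K Q : Subgroup G) : Prop :=
  Maximal (fun T : Subgroup G => IsPGroup p T ∧ T ≤ K) Q

theorem exists_isMax {K R : Subgroup G} (hR : IsPGroup p R) (hRK : R ≤ K) :
    ∃ Q, R ≤ Q ∧ IsMax p K Q :=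
  Set.Finite.exists_le_maximal (Set.toFinite {T : Subgroup G | IsPGroup p T ∧ T ≤ K}) ⟨hR, hRK⟩

theorem isMax_iff_sylow {K Q : Subgroup G} :
    IsMax p K Q ↔ ∃ S : Sylow p K, (S : Subgroup K).map K.subtype = Q := by
  constructor
  · intro h
    refine ⟨⟨Q.subgroupOf K, h.1.1.comap_of_injective _ K.subtype_injective, fun {T} hT hle =>
      le_antisymm ?_ hle⟩, map_subgroupOf_eq_of_le h.1.2⟩
    have hQ : Q ≤ T.map K.subtype := by
      rw [← map_subgroupOf_eq_of_le h.1.2]; exact Subgroup.map_mono hle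
    have := h.2 ⟨hT.map _, map_subtype_le T⟩ hQ
    intro x hx
    exact mem_subgroupOf.mpr (this ⟨x, hx, rfl⟩)
  · rintro ⟨S, rfl⟩
    refine ⟨⟨S.2.map _, map_subtype_le _⟩, fun T hT hle => ?_⟩
    have h1 : (S : Subgroup K) ≤ T.subgroupOf K := fun x hx => hle ⟨x, hx, rfl⟩
    have h2 := S.3 (hT.1.comap_of_injective _ K.subtype_injective) h1
    rw [← map_subgroupOf_eq_of_le hT.2]
    exact Subgroup.map_mono h2.le

theorem card_isMax (K : Subgroup G) : Nat.card {Q // IsMax p K Q} = Nat.card (Sylow p K) :=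
  (Nat.card_congr (Equiv.ofBijective
    (fun S : Sylow p K => (⟨_, (isMax_iff_sylow p).mpr ⟨S, rfl⟩⟩ : {Q // IsMax p K Q}))
    ⟨fun _ _ h => Sylow.ext (map_injective K.subtype_injective (congrArg Subtype.val h)),
      fun Q => by
        obtain ⟨S, hS⟩ := (isMax_iff_sylow p).mp Q.2
        exact ⟨S, Subtype.ext hS⟩⟩)).symm

theorem card_normalizer_mul {K Q : Subgroup G} (hQ : IsMax p K Q) :
    Nat.card (K ⊓ normalizer (Q : Set G) : Subgroup G) * Nat.card {Q // IsMax p K Q} =
      Nat.card K := by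
  obtain ⟨S, rfl⟩ := (isMax_iff_sylow p).mp hQ
  rw [card_isMax, S.card_eq_index_normalizer]
  have h : (normalizer ((S : Subgroup K) : Set K)).map K.subtype =
      K ⊓ normalizer (((S : Subgroup K).map K.subtype) : Set G) := by
    have h2 := subgroupOf_normalizer_eq (map_subtype_le (S : Subgroup K))
    rw [show ((S : Subgroup K).map K.subtype).subgroupOf K = (S : Subgroup K) from
      comap_map_eq_self_of_injective K.subtype_injective _] at h2
    rw [← h2, subgroupOf, map_comap_eq, range_subtype]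
  rw [← h, ← Nat.card_congr (equivMapOfInjective _ _ K.subtype_injective).toEquiv]
  exact card_mul_index _

theorem le_isMax_of_normal {K H Q : Subgroup G} (hH : IsPGroup p H) (hHK : H ≤ K)
    (hn : K ≤ normalizer (H : Set G)) (hQ : IsMax p K Q) : H ≤ Q := by
  obtain ⟨⟨hQp, hQK⟩, hmax⟩ := hQ
  have h1 : IsPGroup p (Q ⊔ H : Subgroup G) := hQp.to_sup_of_normal_right' hH (hQK.trans hn)
  have h2 : Q ⊔ H ≤ K := sup_le hQK hHK
  have h3 : Q ⊔ H ≤ Q := hmax ⟨h1, h2⟩ le_sup_left
  exact le_sup_right.trans h3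

/-- The local Euler sums. -/
noncomputable def euler (K H : Subgroup G) (g : G) : ℤ :=
  ∑ R ∈ univ.filter (fun R => H ≤ R ∧ Sn p K R g), moeb H R

theorem euler_eq_zero_of_not_mem {K H : Subgroup G} {g : G} (hgK : g ∈ K) (hHK : H ≤ K)
    (hg : g ∉ normalizer (H : Set G)) : euler p K H g = 0 := by
  have hlt : H < H ⊔ H.map (MulAut.conj g).toMonoidHom := by
    refine lt_of_le_of_ne le_sup_left fun e => hg (mem_normalizer_iff_map_conj_eq.mpr ?_)
    have hle : H.map (MulAut.conj g).toMonoidHom ≤ H := le_sup_right.trans e.ge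
    have hcard : Nat.card H = Nat.card (H.map (MulAut.conj g).toMonoidHom) :=
      Nat.card_congr (equivMapOfInjective H _ (MulAut.conj g).injective).toEquiv
    exact eq_of_le_of_card_ge hle hcard.le
  unfold euler
  refine sum_moeb_closed hlt _ (fun R hR => (mem_filter.mp hR).2.1) ?_ ?_
  · intro R hR S hS hSR
    obtain ⟨-, -, -, T, hT, hRT, hTK, hgT⟩ := mem_filter.mp hR
    exact mem_filter.mpr ⟨mem_univ _, hS, hgK, T, hT, hSR.trans hRT, hTK, hgT⟩
  · intro R hR
    obtain ⟨-, hHR, -, T, hT, hRT, hTK, hgT⟩ := mem_filter.mp hR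
    refine mem_filter.mpr ⟨mem_univ _, hHR.trans le_sup_left, hgK, T, hT, ?_, hTK, hgT⟩
    refine sup_le hRT (sup_le (hHR.trans hRT) ?_)
    exact (map_mono (hHR.trans hRT)).trans (mem_normalizer_iff_map_conj_eq.mp hgT).le

/-- The sum of the counts above `H`, expanded. -/
theorem expansion {K H : Subgroup G} (hH : IsPGroup p H) (hHK : H ≤ K) :
    ∑ R ∈ univ.filter (fun R => H ≤ R ∧ R ≤ K ∧ IsPGroup p R), moeb H R *
      ((Nat.card {g // Sn p K R g} : ℤ) * Nat.card {Q // IsMax p K Q} -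
        Nat.card {Q // IsMax p K Q ∧ R ≤ Q} * Nat.card K) =
    (Nat.card {Q // IsMax p K Q} : ℤ) *
      (∑' g : ↥(K ⊓ normalizer (H : Set G)), euler p K H g) -
        (if IsMax p K H then 1 else 0) * Nat.card K := by
  haveI := Fintype.ofFinite G
  have hS : ∑ R ∈ univ.filter (fun R => H ≤ R ∧ R ≤ K ∧ IsPGroup p R),
      moeb H R * (Nat.card {g // Sn p K R g} : ℤ) =
      ∑' g : ↥(K ⊓ normalizer (H : Set G)), euler p K H g := by
    rw [tsum_fintype, ← Finset.sum_subtype (univ.filter (fun g => g ∈ K ⊓ normalizer (H : Set G)))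
      (fun g => by simp) (euler p K H)]
    rw [Finset.sum_subset (s₂ := (univ : Finset G).filter (fun g => g ∈ K))
      (fun g hg => by simp only [mem_filter, mem_univ, true_and] at hg ⊢; exact (Subgroup.mem_inf.mp hg).1)
      (fun g hg hg' => by
        simp only [mem_filter, mem_univ, true_and] at hg hg'
        exact euler_eq_zero_of_not_mem p hg hHK fun h => hg' (Subgroup.mem_inf.mpr ⟨hg, h⟩))]
    simp only [euler, Nat.card_eq_fintype_card, Fintype.card_subtype, Finset.card_filter,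
      Nat.cast_sum, Finset.mul_sum]
    rw [Finset.sum_comm]
    simp only [Finset.sum_filter]
    refine Finset.sum_congr rfl fun g _ => ?_
    by_cases hg : g ∈ K
    · rw [if_pos hg]
      refine Finset.sum_congr rfl fun R _ => ?_
      by_cases h : H ≤ R ∧ Sn p K R g
      · obtain ⟨-, T, hT, hRT, hTK, -⟩ := id h.2
        rw [if_pos h, if_pos ⟨h.1, hRT.trans hTK, hT.to_le hRT⟩, if_pos h.2]
        simp
      · rw [if_neg h]
        by_cases h' : H ≤ R ∧ R ≤ K ∧ IsPGroup p R
        · rw [if_pos h', if_neg fun hs => h ⟨h'.1, hs⟩]; simp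
        · rw [if_neg h']
    · rw [if_neg hg]
      refine Finset.sum_eq_zero fun R _ => ?_
      by_cases h' : H ≤ R ∧ R ≤ K ∧ IsPGroup p R
      · rw [if_pos h', if_neg fun hs => hg hs.1]; simp
      · rw [if_neg h']
  have hL : ∑ R ∈ univ.filter (fun R => H ≤ R ∧ R ≤ K ∧ IsPGroup p R),
      moeb H R * (Nat.card {Q // IsMax p K Q ∧ R ≤ Q} : ℤ) =
      if IsMax p K H then 1 else 0 := by
    have h1 : ∀ Q : Subgroup G, (∑ R ∈ univ.filter (fun R => H ≤ R ∧ R ≤ K ∧ IsPGroup p R),
        if IsMax p K Q ∧ R ≤ Q then moeb H R else 0) =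
        if Q = H ∧ IsMax p K H then 1 else 0 := by
      intro Q
      by_cases hQ : IsMax p K Q
      · rw [← Finset.sum_filter]
        have h2 := sum_moeb H Q
        by_cases hQH : Q = H
        · subst hQH
          rw [if_pos ⟨rfl, hQ⟩, ← (if_pos rfl : (if Q = Q then (1 : ℤ) else 0) = 1), ← h2]
          refine Finset.sum_congr ?_ fun _ _ => rfl
          ext R
          simp only [mem_filter, mem_univ, true_and]
          constructor
          · rintro ⟨⟨a, -, -⟩, -, c⟩; exact ⟨a, c⟩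
          · rintro ⟨a, c⟩; exact ⟨⟨a, c.trans hQ.1.2, hQ.1.1.to_le c⟩, hQ, c⟩
        · rw [if_neg (fun h : Q = H ∧ IsMax p K H => hQH h.1), ← (if_neg (Ne.symm hQH) : (if H = Q then (1 : ℤ) else 0) = 0),
            ← h2]
          refine Finset.sum_congr ?_ fun _ _ => rfl
          ext R
          simp only [mem_filter, mem_univ, true_and]
          constructor
          · rintro ⟨⟨a, -, -⟩, -, c⟩; exact ⟨a, c⟩
          · rintro ⟨a, c⟩; exact ⟨⟨a, c.trans hQ.1.2, hQ.1.1.to_le c⟩, hQ, c⟩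
      · rw [if_neg (fun h : Q = H ∧ IsMax p K H => hQ (h.1 ▸ h.2))]
        exact Finset.sum_eq_zero fun R _ => if_neg fun h => hQ h.1
    simp only [Nat.card_eq_fintype_card, Fintype.card_subtype, Finset.card_filter, Nat.cast_sum,
      Finset.mul_sum]
    rw [Finset.sum_comm, ← (show (∑ Q : Subgroup G, if Q = H ∧ IsMax p K H then (1 : ℤ) else 0) =
      if IsMax p K H then 1 else 0 by simp [ite_and])]
    refine Finset.sum_congr rfl fun Q _ => ?_
    rw [← h1 Q]
    refine Finset.sum_congr rfl fun R _ => ?_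
    split_ifs <;> simp
  simp only [mul_sub, ← mul_assoc, Finset.sum_sub_distrib, ← Finset.sum_mul, hS, hL]
  ring

/-- Casolo's formula. -/
theorem count : ∀ (K H : Subgroup G), IsPGroup p H → H ≤ K →
    Nat.card {g // Sn p K H g} * Nat.card {Q // IsMax p K Q} =
      Nat.card {Q // IsMax p K Q ∧ H ≤ Q} * Nat.card K := by
  intro K
  induction K using WellFoundedLT.induction with
  | ind K ihK =>
  intro H
  induction H using WellFoundedGT.induction with
  | ind H ihH =>
  intro hH hHK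
  by_cases hn : K ≤ normalizer (H : Set G)
  · have h1 : Nat.card {g // Sn p K H g} = Nat.card K :=
      Nat.card_congr (Equiv.subtypeEquivRight fun g =>
        ⟨fun h => h.1, fun h => ⟨h, H, hH, le_rfl, hHK, hn h⟩⟩)
    have h2 : Nat.card {Q // IsMax p K Q ∧ H ≤ Q} = Nat.card {Q // IsMax p K Q} :=
      Nat.card_congr (Equiv.subtypeEquivRight fun Q =>
        ⟨fun h => h.1, fun h => ⟨h, le_isMax_of_normal p hH hHK hn h⟩⟩)
    rw [h1, h2, mul_comm]
  by_cases hmax : IsMax p K H
  · have h1 : Nat.card {g // Sn p K H g} =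
        Nat.card (K ⊓ normalizer (H : Set G) : Subgroup G) := by
      refine Nat.card_congr (Equiv.subtypeEquivRight fun g => ⟨fun h => ?_, fun h =>
        ⟨h.1, H, hH, le_rfl, hHK, h.2⟩⟩)
      obtain ⟨hg, T, hT, hHT, hTK, hgT⟩ := h
      have : T = H := le_antisymm (hmax.2 ⟨hT, hTK⟩ hHT) hHT
      exact ⟨hg, this ▸ hgT⟩
    have h2 : Nat.card {Q // IsMax p K Q ∧ H ≤ Q} = 1 := Nat.card_eq_one_iff_exists.mpr
      ⟨⟨H, hmax, le_rfl⟩, fun Q => Subtype.ext
        (le_antisymm (hmax.2 ⟨Q.2.1.1.1, Q.2.1.1.2⟩ Q.2.2) Q.2.2)⟩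
    rw [h1, h2, one_mul, card_normalizer_mul p hmax]
  -- expansion in `K` and in the normalizer
  set K' := K ⊓ normalizer (H : Set G) with hK'
  have hKK : K' < K := inf_lt_left.mpr hn
  have hHK' : H ≤ K' := le_inf hHK le_normalizer
  have hmax' : ¬ IsMax p K' H := by
    intro h
    apply hmax
    refine ⟨⟨hH, hHK⟩, fun T hT hHT => ?_⟩
    by_contra hc
    have hlt := Fusion.lt_inf_normalizer_of_isPGroup hT.1 (lt_of_le_not_ge hHT hc)
    exact hlt.not_ge (h.2 ⟨hT.1.to_le inf_le_left,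
      le_inf (inf_le_left.trans hT.2) inf_le_right⟩ hlt.le)
  have heul : ∀ g ∈ K', euler p K' H g = euler p K H g := by
    intro g hg
    refine Finset.sum_subset (fun R hR => ?_) (fun R hR hR' => ?_)
    · obtain ⟨-, hHR, -, T, hT, hRT, hTK, hgT⟩ := mem_filter.mp hR
      exact mem_filter.mpr ⟨mem_univ _, hHR, hg.1, T, hT, hRT, hTK.trans inf_le_left, hgT⟩
    · obtain ⟨-, hHR, -, T, hT, hRT, hTK, hgT⟩ := mem_filter.mp hR
      refine moeb_eq_zero p R (hT.to_le hRT) hHR fun hle => hR' ?_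
      refine mem_filter.mpr ⟨mem_univ _, hHR, hg, T ⊓ normalizer (H : Set G),
        hT.to_le inf_le_left, le_inf hRT hle, le_inf (inf_le_left.trans hTK) inf_le_right, ?_⟩
      rw [mem_normalizer_iff]
      intro x
      have hg2 : g ∈ normalizer (H : Set G) := (Subgroup.mem_inf.mp hg).2
      rw [Subgroup.mem_inf, Subgroup.mem_inf]
      refine and_congr (mem_normalizer_iff.mp hgT x) ⟨fun hx => ?_, fun hx => ?_⟩
      · exact mul_mem (mul_mem hg2 hx) (inv_mem hg2)
      · have := mul_mem (mul_mem (inv_mem hg2) hx) hg2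
        simpa [mul_assoc] using this
  have hKeq : K' ⊓ normalizer (H : Set G) = K' := inf_eq_left.mpr inf_le_right
  have e1 := expansion p hH hHK
  have e2 := expansion p hH hHK'
  rw [if_neg hmax, zero_mul, sub_zero] at e1
  rw [if_neg hmax', zero_mul, sub_zero] at e2
  rw [Finset.sum_eq_zero (fun R hR => by
    obtain ⟨-, hHR, hRK, hRp⟩ := mem_filter.mp hR
    rw [sub_eq_zero.mpr (by exact_mod_cast ihK K' hKK R hRp hRK), mul_zero])] at e2
  have hA : (∑' g : ↥(K ⊓ normalizer (H : Set G)), euler p K H g) = 0 := by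
    have hn0 : (Nat.card {Q // IsMax p K' Q} : ℤ) ≠ 0 := by
      obtain ⟨Q, -, hQ⟩ := exists_isMax p hH hHK'
      haveI : Nonempty {Q // IsMax p K' Q} := ⟨⟨Q, hQ⟩⟩
      exact_mod_cast Nat.card_pos.ne'
    have h0 := (mul_eq_zero.mp e2.symm).resolve_left hn0
    rw [hKeq] at h0
    rw [← h0]
    exact tsum_congr fun g => (heul g g.2).symm
  rw [hA, mul_zero, Finset.sum_eq_single H] at e1
  · rw [moeb_self, one_mul, sub_eq_zero] at e1
    exact_mod_cast e1
  · intro R hR hne
    obtain ⟨-, hHR, hRK, hRp⟩ := mem_filter.mp hR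
    rw [sub_eq_zero.mpr (by exact_mod_cast ihH R (lt_of_le_of_ne hHR hne.symm) hRp hRK), mul_zero]
  · intro h
    exact absurd (mem_filter.mpr ⟨mem_univ _, le_rfl, hHK, hH⟩) h

end Cfsg.Agent.Subnormalizer
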